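import Cfsg.Agent.Lib.Helper9.TC2Pack

set_option autoImplicit false
set_option maxRecDepth 100000

namespace Cfsg.Agent.Helper9.TCData.S44CX
open Cfsg.Agent.Helper9.TC2
noncomputable def entT_0 : BT := (BT.node 4 (BT.node 2 (BT.leaf 0x18450db2001784ddc608011) (BT.leaf 0x854e189c00a944035832)) (BT.node 6 (BT.leaf 0x19248504a14f6181a845c53) (BT.node 8 (BT.leaf 0x1d3280b59d5f756074) (BT.leaf 0x16180800310807980000095))))

noncomputable def cerT_0 : BT := (BT.node 4 (BT.node 2 (BT.leaf 0x2081009042080) (BT.leaf 0x442080ec2000)) (BT.node 6 (BT.leaf 0x19082659082000) (BT.node 8 (BT.leaf 0x310a98e1000) (BT.leaf 0x2080082080000))))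

noncomputable def lkT_0 : BT := (BT.leaf 0x237a4e60b0243b4251ac000)

noncomputable def lcT_0 : BT := (BT.leaf 0x1c4208d101c1e14159e18dd000)

noncomputable def pnT_0 : BT := (BT.leaf 0x3142460304040000)

noncomputable def clsT_0 : BT := (BT.leaf 0x0)

noncomputable def repT_0 : BT := (BT.leaf 0x0)

noncomputable def tauT_0 : BT := (BT.node 4 (BT.node 2 (BT.leaf 0x0) (BT.leaf 0x0)) (BT.node 6 (BT.leaf 0x0) (BT.node 8 (BT.leaf 0x0) (BT.leaf 0x0))))


end Cfsg.Agent.Helper9.TCData.S44CX
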