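import Cfsg.Agent.Lib.Helper9.TC2Cox
import Cfsg.Agent.Lib.Helper9.TC2Aux
import Cfsg.Agent.Lib.Helper9.TC2BSGS
import Cfsg.Agent.Lib.Helper9.TC2Pack
import Cfsg.Agent.Lib.Helper9.TCData.S44CX.P0

set_option autoImplicit false
set_option maxRecDepth 100000

namespace Cfsg.Agent.Helper9.TCData.S44CX
open Cfsg.Agent.Helper9.TC2
/-- The rotated relators. -/
noncomputable def rotT : WT := (WT.node 4 (WT.node 2 (WT.node 1 (WT.leaf [0, 2, 0, 2]) (WT.leaf [0, 3, 0, 4])) (WT.node 3 (WT.leaf [1, 3, 1, 3]) (WT.leaf [2, 3, 0, 1]))) (WT.node 6 (WT.node 5 (WT.leaf [3, 0, 4, 0]) (WT.leaf [3, 3, 3])) (WT.node 7 (WT.leaf [3, 0, 1, 2]) (WT.node 8 (WT.leaf [3, 2, 3, 2, 3, 2]) (WT.leaf [1, 2, 1, 2, 1, 2])))))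

/-- The sources of the rotated relators: relator and rotation. -/
def rotSrc : List (ℕ × ℕ) := [(2, 2), (12, 3), (13, 3), (17, 2), (12, 0), (11, 1), (17, 3), (14, 0), (5, 0)]

/-- The relators, as words of columns. -/
def relWords : List (List ℕ) := [[0, 0], [0, 1, 0, 1, 0, 1, 0, 1, 0, 1, 0, 1, 0, 1, 0, 1, 0, 1, 0, 1], [0, 2, 0, 2], [1, 0, 1, 0, 1, 0, 1, 0, 1, 0, 1, 0, 1, 0, 1, 0, 1, 0, 1, 0], [1, 1], [1, 2, 1, 2, 1, 2], [2, 0, 2, 0], [2, 1, 2, 1, 2, 1], [2, 2], [2, 1, 0, 2, 0, 1, 2, 1], [2, 1, 0, 1, 0, 1, 0, 1, 0, 1, 2, 1, 0, 1, 0, 1, 0, 1, 0, 1], [3, 3, 3], [3, 0, 4, 0], [3, 1, 3, 1], [3, 2, 3, 2, 3, 2], [3, 2, 1, 0, 1, 0, 2, 1, 0, 1, 2, 3, 2, 1, 0, 1, 0, 2, 1, 0, 1, 2, 3, 2, 1, 0, 1, 2, 0, 1, 0, 1, 2, 3, 2, 1, 0, 1, 2, 0, 1, 0, 1, 2, 3, 2, 1, 0, 1, 2, 0, 1, 0, 1, 2,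 0, 1, 0, 1, 0], [3, 2, 1, 0, 1, 0, 2, 1, 0, 1, 2, 4, 2, 1, 0, 1, 0, 2, 1, 0, 1, 2, 3, 2, 1, 0, 1, 2, 0, 1, 0, 1, 2, 4, 2, 1, 0, 1, 2, 0, 1, 0, 1, 2, 3, 2, 1, 0, 1, 2, 1, 0, 1, 0, 1, 2, 1, 0, 1, 0], [0, 1, 2, 3]]

/-- The words checked on the permutation model. -/
def mwords : List (List ℕ) := [[0, 1, 0, 1, 0, 1, 0, 1, 0, 1, 0, 1, 0, 1, 0, 1, 0, 1, 0, 1], [0, 2, 0, 2], [1, 2, 1, 2, 1, 2], [2, 1, 0, 2, 0, 1, 2, 1], [2, 1, 0, 1, 0, 1, 0, 1, 0, 1, 2, 1, 0, 1, 0, 1, 0, 1, 0, 1], [3, 3, 3], [3, 0, 4, 0], [3, 1, 3, 1], [3, 2, 3, 2, 3, 2], [3, 2, 1, 0, 1, 0, 2, 1, 0, 1, 2, 3, 2, 1, 0, 1, 0, 2, 1, 0, 1, 2, 3, 2, 1, 0, 1, 2, 0, 1, 0, 1, 2, 3, 2, 1, 0, 1, 2, 0, 1, 0, 1, 2, 3, 2, 1, 0, 1, 2, 0, 1, 0, 1, 2, 0, 1, 0, 1, 0], [3, 2, 1, 0, 1, 0, 2, 1, 0, 1, 2, 4, 2, 1, 0, 1, 0, 2, 1, 0,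 1, 2, 3, 2, 1, 0, 1, 2, 0, 1, 0, 1, 2, 4, 2, 1, 0, 1, 2, 0, 1, 0, 1, 2, 3, 2, 1, 0, 1, 2, 1, 0, 1, 0, 1, 2, 1, 0, 1, 0], [0, 1, 2, 3]]

/-- The table. -/
noncomputable def tab : Tab where
  k := 5
  inv := fun c => (bif Nat.beq c 0 then 0 else (bif Nat.beq c 1 then 1 else (bif Nat.beq c 2 then 2 else (bif Nat.beq c 3 then 4 else (bif Nat.beq c 4 then 3 else c)))))
  N := 9
  n := 1
  Tmax := 46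
  wn := 4
  mn := 0xf
  subs := []
  rot := fun i => rotT.getF i
  ent := fun c i => bget2 entT_0 1 10 10 0x3ff 1023 c i
  cer := fun c i => bget2 cerT_0 1 11 6 0x3f 2047 c i
  tau := fun c i => bget2 tauT_0 1 14 1 0x1 16383 c i
  lk := fun i => bget lkT_0 10 10 0x3ff 1023 i
  lc := fun i => bget lcT_0 10 12 0xfff 1023 i
  pn := fun i => bget pnT_0 11 7 0x7f 2047 i
  cls := fun i => bget clsT_0 14 1 0x1 16383 i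
  rep := fun i => bget repT_0 14 1 0x1 16383 i

end Cfsg.Agent.Helper9.TCData.S44CX
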